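import Mathlib
import Groth.Agent.FLCLib.Topology

/-!
# Completely decomposed morphisms have sections over a stratification
-/

set_option autoImplicit false
set_option backward.isDefEq.respectTransparency false
set_option linter.style.haveILetI false
set_option maxHeartbeats 1000000

open AlgebraicGeometry CategoryTheory Limits Topology

universe u

namespace Groth.Agent.DecompStratLib

/-- A point of a finitely presented algebra in a residue field spreads to a piece cut out by finitely many
equations inside a basic open. -/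
theorem exists_lift_piece {A B : Type u} [CommRing A] [CommRing B] [Algebra A B] [Algebra.FinitePresentation A B]
    (p : Ideal A) [p.IsPrime] (φ : B →ₐ[A] p.ResidueField) :
    ∃ (f : A) (I : Ideal (Localization.Away f)) (ρ : Localization.Away f →+* p.ResidueField),
      I.FG ∧ I ≤ RingHom.ker ρ ∧ ρ.comp (algebraMap A (Localization.Away f)) = algebraMap A p.ResidueField ∧
      ∃ ψ : B →ₐ[A] Localization.Away f ⧸ I, ∀ hI : I ≤ RingHom.ker ρ, ∀ b, Ideal.Quotient.lift I ρ (fun a ha => hI ha) (ψ b) = φ b := by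
  classical
  obtain ⟨n, π, hπ, hker⟩ := ‹Algebra.FinitePresentation A B›.out
  have hd : ∀ i : Fin n, ∃ a s : A, s ∉ p ∧ algebraMap A p.ResidueField a = φ (π (MvPolynomial.X i)) * algebraMap A p.ResidueField s := by
    intro i
    obtain ⟨a, s, hs, e⟩ := IsFractionRing.div_surjective (A ⧸ p) (φ (π (MvPolynomial.X i)))
    obtain ⟨a, rfl⟩ := Ideal.Quotient.mk_surjective a
    obtain ⟨s, rfl⟩ := Ideal.Quotient.mk_surjective s
    have hs0 : algebraMap A p.ResidueField s ≠ 0 := by
      rw [IsScalarTower.algebraMap_apply A (A ⧸ p) p.ResidueField]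
      exact IsFractionRing.to_map_ne_zero_of_mem_nonZeroDivisors hs
    refine ⟨a, s, fun h => hs0 ?_, ?_⟩
    · rw [IsScalarTower.algebraMap_apply A (A ⧸ p) p.ResidueField,
        show algebraMap A (A ⧸ p) s = 0 from Ideal.Quotient.eq_zero_iff_mem.2 h, map_zero]
    · rw [← e, IsScalarTower.algebraMap_apply A (A ⧸ p) p.ResidueField,
        IsScalarTower.algebraMap_apply A (A ⧸ p) p.ResidueField s]
      exact (div_mul_cancel₀ _ (IsFractionRing.to_map_ne_zero_of_mem_nonZeroDivisors hs)).symm
  choose a s hs hφ using hd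
  let f := ∏ i, s i
  have hf : algebraMap A p.ResidueField f ≠ 0 := by
    rw [Ne, Ideal.algebraMap_residueField_eq_zero]
    exact fun h => by
      obtain ⟨i, -, hi⟩ := (Ideal.IsPrime.prod_mem_iff).1 h
      exact hs i hi
  let ρ : Localization.Away f →+* p.ResidueField := IsLocalization.Away.lift f (isUnit_iff_ne_zero.2 hf)
  have hρ : ρ.comp (algebraMap A (Localization.Away f)) = algebraMap A p.ResidueField := IsLocalization.lift_comp _
  have hρ' : ∀ x, ρ (algebraMap A (Localization.Away f) x) = algebraMap A p.ResidueField x := fun x => RingHom.congr_fun hρ x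
  let v : Fin n → Localization.Away f := fun i => algebraMap A _ (a i * ∏ j ∈ Finset.univ.erase i, s j) *
    IsLocalization.Away.invSelf f
  have hv : ∀ i, ρ (v i) = φ (π (MvPolynomial.X i)) := by
    intro i
    have h1 : ρ (IsLocalization.Away.invSelf f) * algebraMap A p.ResidueField f = 1 := by
      rw [← hρ', ← map_mul, mul_comm, IsLocalization.Away.mul_invSelf, map_one]
    rw [show ρ (v i) = algebraMap A p.ResidueField (a i * ∏ j ∈ Finset.univ.erase i, s j) *
        ρ (IsLocalization.Away.invSelf f) by rw [map_mul, hρ'], map_mul, hφ, mul_assoc, mul_assoc,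
      ← mul_assoc (algebraMap A p.ResidueField (s i)), ← map_mul, Finset.mul_prod_erase _ _ (Finset.mem_univ i),
      mul_comm (algebraMap A p.ResidueField _), h1, mul_one]
  let ψ₀ : MvPolynomial (Fin n) A →ₐ[A] Localization.Away f := MvPolynomial.aeval v
  let I : Ideal (Localization.Away f) := (RingHom.ker π).map ψ₀.toRingHom
  have hψ₀ : ρ.comp ψ₀.toRingHom = (φ.comp π).toRingHom := by
    refine MvPolynomial.ringHom_ext (fun r => ?_) (fun i => ?_)
    · show ρ (ψ₀ (MvPolynomial.C r)) = φ (π (MvPolynomial.C r))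
      rw [← MvPolynomial.algebraMap_eq, AlgHom.commutes, AlgHom.commutes, AlgHom.commutes, hρ']
    · show ρ (ψ₀ (MvPolynomial.X i)) = φ (π (MvPolynomial.X i))
      rw [MvPolynomial.aeval_X, hv]
  have hI : I ≤ RingHom.ker ρ := Ideal.map_le_iff_le_comap.2 fun x hx => by
    show ρ (ψ₀.toRingHom x) = 0
    rw [← RingHom.comp_apply, hψ₀]
    show φ (π x) = 0
    rw [show π x = 0 from hx, map_zero]
  let q := (Ideal.Quotient.mkₐ A I).comp ψ₀
  refine ⟨f, I, ρ, hker.map _, hI, hρ, AlgHom.liftOfSurjective π hπ q ?_, fun hI' b => ?_⟩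
  · intro x hx
    exact Ideal.Quotient.eq_zero_iff_mem.2 (Ideal.mem_map_of_mem _ hx)
  · obtain ⟨x, rfl⟩ := hπ b
    rw [AlgHom.liftOfSurjective_apply]
    exact RingHom.congr_fun hψ₀ x

variable {X Y : Scheme.{u}} (f : X ⟶ Y)

/-- Around a point with a rational lift there is a finitely presented piece with a section. -/
theorem exists_piece [LocallyOfFinitePresentation f] [QuasiSeparatedSpace Y] (x : X)
    (hx : Function.Bijective (f.residueFieldMap x)) :
    ∃ (Z : Scheme.{u}) (z : Z ⟶ Y), f x ∈ Set.range z ∧ IsImmersion z ∧ LocallyOfFinitePresentation z ∧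
      QuasiCompact z ∧ QuasiSeparated z ∧ ∃ s : Z ⟶ pullback f z, s ≫ pullback.snd f z = 𝟙 Z := by
  obtain ⟨V, hV, hxV, -⟩ := exists_isAffineOpen_mem_and_subset (x := f x) (U := ⊤) trivial
  obtain ⟨W, hW, hxW, hWV⟩ := exists_isAffineOpen_mem_and_subset (x := x) (U := f ⁻¹ᵁ V) hxV
  let θ := f.appLE V W hWV
  letI : Algebra Γ(Y, V) Γ(X, W) := θ.hom.toAlgebra
  haveI : Algebra.FinitePresentation Γ(Y, V) Γ(X, W) :=
    HasRingHomProperty.appLE (P := @LocallyOfFinitePresentation) _ ‹_› ⟨V, hV⟩ ⟨W, hW⟩ hWV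
  let p := (hV.primeIdealOf ⟨f x, hxV⟩).asIdeal
  haveI : IsIso (f.residueFieldMap x) := (ConcreteCategory.isIso_iff_bijective _).mpr hx
  let e := Y.evaluation V (f x) hxV
  -- the residue field at `f x` as a fraction field of `A/p`
  let c : X.residueField x ⟶ Y.residueField (f x) := inv (f.residueFieldMap x)
  let φ₀ : Γ(X, W) ⟶ Y.residueField (f x) := X.evaluation W x hxW ≫ c
  have hθ : θ ≫ φ₀ = e := by
    rw [← Category.assoc, IsIso.comp_inv_eq, Scheme.evaluation_naturality]
    show (f.app V ≫ X.presheaf.map _) ≫ X.presheaf.germ W x hxW ≫ X.residue x =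
      f.app V ≫ X.presheaf.germ (f ⁻¹ᵁ V) x _ ≫ X.residue x
    rw [Category.assoc, TopCat.Presheaf.germ_res_assoc]
  obtain ⟨ε, hε⟩ : ∃ ε : Y.residueField (f x) →+* p.ResidueField,
      ∀ a, ε (e.hom a) = algebraMap Γ(Y, V) p.ResidueField a := exists_residueField_hom hV (f x) hxV
  let φ : Γ(X, W) →ₐ[Γ(Y, V)] p.ResidueField :=
    { ε.comp φ₀.hom with
      commutes' := fun a => by
        show ε (φ₀.hom (θ.hom a)) = _
        rw [← hε, ← hθ]
        rfl }
  obtain ⟨g, I, ρ, hIfg, hI, hρ, ψ, -⟩ := exists_lift_piece p φ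
  haveI : IsOpenImmersion (Spec.map (CommRingCat.ofHom (algebraMap Γ(Y, V) (Localization.Away g)))) :=
    IsOpenImmersion.of_isLocalization g
  let i₁ := Spec.map (CommRingCat.ofHom (Ideal.Quotient.mk I))
  haveI : IsClosedImmersion i₁ := IsClosedImmersion.spec_of_surjective _ Ideal.Quotient.mk_surjective
  haveI : LocallyOfFinitePresentation i₁ := (HasRingHomProperty.Spec_iff (P := @LocallyOfFinitePresentation)).2
    (RingHom.FinitePresentation.of_surjective _ Ideal.Quotient.mk_surjective (by rw [CommRingCat.hom_ofHom, Ideal.mk_ker]; exact hIfg))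
  let z := i₁ ≫ Spec.map (CommRingCat.ofHom (algebraMap Γ(Y, V) (Localization.Away g))) ≫ hV.fromSpec
  haveI : LocallyOfFinitePresentation z := inferInstance
  haveI : QuasiCompact z := quasiCompact_of_compactSpace _
  let k := Spec.map (CommRingCat.ofHom ψ.toRingHom) ≫ hW.fromSpec
  have hk : k ≫ f = z := by
    rw [Category.assoc, ← hV.SpecMap_appLE_fromSpec f hW hWV, ← Category.assoc, ← Spec.map_comp]
    show _ = Spec.map _ ≫ Spec.map _ ≫ _
    rw [← Category.assoc, ← Spec.map_comp]
    congr 2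
    exact CommRingCat.hom_ext (RingHom.ext fun a => ψ.commutes a)
  refine ⟨_, z, ?_, inferInstance, inferInstance, inferInstance, inferInstance,
    pullback.lift k (𝟙 _) (by rw [Category.id_comp, hk]), pullback.lift_snd _ _ _⟩
  let Q : ↥(Spec (CommRingCat.of (Localization.Away g ⧸ I))) :=
    PrimeSpectrum.comap (Ideal.Quotient.lift I ρ fun a ha => hI ha) ⊥
  refine ⟨Q, Eq.trans ?_ (hV.fromSpec_primeIdealOf ⟨f x, hxV⟩)⟩
  show hV.fromSpec (PrimeSpectrum.comap (algebraMap Γ(Y, V) (Localization.Away g))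
    (PrimeSpectrum.comap (Ideal.Quotient.mk I) Q)) = _
  congr 1
  refine PrimeSpectrum.ext (Ideal.ext fun a => ?_)
  show ρ (algebraMap _ _ a) ∈ (⊥ : Ideal p.ResidueField) ↔ a ∈ p
  rw [Ideal.mem_bot, ← RingHom.comp_apply, hρ, Ideal.algebraMap_residueField_eq_zero]
where
  exists_residueField_hom {V : Y.Opens} (hV : IsAffineOpen V) (y : Y) (hy : y ∈ V) :
    ∃ ε : Y.residueField y →+* (hV.primeIdealOf ⟨y, hy⟩).asIdeal.ResidueField,
      ∀ a, ε ((Y.evaluation V y hy).hom a) = algebraMap Γ(Y, V) _ a := by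
    letI := (Y.presheaf.germ V y hy).hom.toAlgebra
    haveI := hV.isLocalization_stalk ⟨y, hy⟩
    let e := IsLocalization.algEquiv (hV.primeIdealOf ⟨y, hy⟩).asIdeal.primeCompl (Y.presheaf.stalk y)
      (Localization.AtPrime (hV.primeIdealOf ⟨y, hy⟩).asIdeal)
    exact ⟨(IsLocalRing.ResidueField.mapEquiv e.toRingEquiv).toRingHom,
      fun a => congrArg (IsLocalRing.residue _) (e.commutes a)⟩

/-- Completely decomposed morphisms of finite presentation have sections over a stratification. -/
theorem exists_strata [LocallyOfFinitePresentation f] [CompactSpace Y] [QuasiSeparatedSpace Y]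
    (hcd : ∀ y : Y, ∃ x : X, f x = y ∧ Function.Bijective (f.residueFieldMap x)) :
    ∃ (n : ℕ) (Z : Fin n → Scheme.{u}) (z : ∀ i, Z i ⟶ Y), (∀ y : Y, ∃ i, y ∈ Set.range (z i)) ∧
      ∀ i, IsImmersion (z i) ∧ LocallyOfFinitePresentation (z i) ∧ QuasiCompact (z i) ∧ QuasiSeparated (z i) ∧
        ∃ s : Z i ⟶ pullback f (z i), s ≫ pullback.snd f (z i) = 𝟙 (Z i) := by
  choose x hfx hx using hcd
  choose Z z hz h1 h2 h3 h4 h5 using fun y => exists_piece f (x y) (hx y)
  have hC : ∀ y, IsConstructible (Set.range (z y)) := fun y => by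
    haveI := h2 y
    haveI := h3 y
    rw [← Set.image_univ]
    exact (z y).isConstructible_image IsConstructible.univ
  obtain ⟨s, hs⟩ := FLCLib.exists_finite_subcover (fun y => Set.range (z y)) hC
    fun y => ⟨y, by have := hz y; rwa [hfx] at this⟩
  let e := s.equivFin
  refine ⟨s.card, fun i => Z (e.symm i).1, fun i => z (e.symm i).1, fun y => ?_,
    fun i => ⟨h1 _, h2 _, h3 _, h4 _, h5 _⟩⟩
  obtain ⟨w, hw, hyw⟩ := hs y
  refine ⟨e ⟨w, hw⟩, ?_⟩
  show y ∈ Set.range (z _)
  rw [Equiv.symm_apply_apply]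
  exact hyw

end Groth.Agent.DecompStratLib
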